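import Cfsg.Agent.Lib.InvChar.RankOneInter.Main
import Cfsg.Agent.Lib.Solvable.Hall

/-!
# Solvable groups with rank one Sylow 2-intersections
-/

set_option autoImplicit false

open scoped Pointwise

namespace CfsgLib.InvChar.RankOne

/-- The structure for trivial odd core. -/
theorem main {Q : Type*} [Group Q] [Finite Q] [Group.IsSolvable Q] (hO : Cfsg.oddCore Q = ⊥)
    (hI : ∀ S T : Sylow 2 Q, S ≠ T → Cfsg.PRankLE 2 1 ↥((S : Subgroup Q) ⊓ (T : Subgroup Q))) :
    (∃ P : Sylow 2 Q, (P : Subgroup Q).Normal) ∨ Nonempty (Q ≃* GL (Fin 2) (ZMod 3)) ∨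
    (Nat.card Q = 48 ∧ Nat.card ↥(Subgroup.center Q) = 2 ∧
      Nonempty (Q ⧸ Subgroup.center Q ≃* Equiv.Perm (Fin 4)) ∧
      ∀ P : Sylow 2 Q, Nonempty (↥(P : Subgroup Q) ≃* QuaternionGroup 4)) := by
  classical
  haveI : Fact (Nat.Prime 2) := ⟨Nat.prime_two⟩
  by_cases hP : ∃ P : Sylow 2 Q, (P : Subgroup Q).Normal
  · exact Or.inl hP
  right
  set R := Cfsg.pCore 2 Q with hR
  haveI hRn : R.Normal := Solvable.pCore_normal 2 Q
  have hR2 : IsPGroup 2 R := Solvable.pCore_isPGroup 2 Q
  have hcore : ∀ N : Subgroup Q, N.Normal → IsPGroup 2 N → N ≤ R := fun N hN hN2 =>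
    Solvable.le_pCore hN hN2
  have hRle : ∀ P : Sylow 2 Q, R ≤ (P : Subgroup Q) := fun P => hR2.le_sylow_of_normal P
  have hRne : ∀ P : Sylow 2 Q, R ≠ (P : Subgroup Q) := fun P e => hP ⟨P, e ▸ hRn⟩
  have hnot2 : ¬ IsPGroup 2 Q := fun h2 => by
    haveI := Sylow.unique_of_normal (default : Sylow 2 Q)
    have hle : (⊤ : Subgroup Q) ≤ R := hcore ⊤ inferInstance (h2.to_subgroup ⊤)
    exact hRne default (le_antisymm (hRle _) (le_top.trans hle))
  -- rank of the core
  obtain ⟨S₁, T₁, hST⟩ : ∃ S T : Sylow 2 Q, S ≠ T := by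
    by_contra! hall
    haveI : Subsingleton (Sylow 2 Q) := ⟨hall⟩
    exact hP ⟨default, Sylow.normal_of_subsingleton _⟩
  have hrank : ∀ A : Subgroup Q, A ≤ R → (∀ a ∈ A, ∀ b ∈ A, a * b = b * a) →
      (∀ a ∈ A, a ^ 2 = 1) → Nat.card A ≤ 2 := by
    intro A hA hcomm hexp
    have hAle : A ≤ (S₁ : Subgroup Q) ⊓ T₁ := le_inf (hA.trans (hRle _)) (hA.trans (hRle _))
    have h1 := hI S₁ T₁ hST (A.subgroupOf ((S₁ : Subgroup Q) ⊓ T₁))
      ⟨⟨fun a b => Subtype.ext (Subtype.ext (hcomm _ a.2 _ b.2))⟩⟩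
      (fun a ha => Subtype.ext (hexp _ ha))
    rwa [Nat.card_congr (Subgroup.subgroupOfEquivOfLe hAle).toEquiv, pow_one] at h1
  have huniq : ∀ u v : R, u ^ 2 = 1 → u ≠ 1 → v ^ 2 = 1 → v ≠ 1 → u = v := by
    -- a central involution absorbs every other
    haveI : Nontrivial R := by
      rw [Subgroup.nontrivial_iff_ne_bot]
      intro hb
      have h1 := centralizer_pCore_two_le hO
      rw [← hR, hb] at h1
      refine hnot2 ((IsPGroup.of_bot (p := 2) (G := Q)).of_injective (?_ : Q →* (⊥ : Subgroup Q)) ?_)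
      · exact MonoidHom.mk' (fun g => ⟨g, h1 (Subgroup.mem_centralizer_iff.2 fun r hr => by
          rw [Subgroup.coe_bot, Set.mem_singleton_iff] at hr; rw [hr, one_mul, mul_one])⟩)
          fun _ _ => Subtype.ext rfl
      · exact fun a b hab => congrArg Subtype.val hab
    haveI := hR2.center_nontrivial
    obtain ⟨n, hn⟩ := IsPGroup.iff_card.1 (hR2.to_subgroup (Subgroup.center R))
    have hn0 : n ≠ 0 := fun h0 => by
      rw [h0, pow_zero, Nat.card_eq_one_iff_unique] at hn
      exact not_subsingleton _ hn.1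
    obtain ⟨z, hz⟩ := exists_prime_orderOf_dvd_card' (G := Subgroup.center R) 2
      (hn ▸ dvd_pow_self 2 hn0)
    have key : ∀ u : R, u ^ 2 = 1 → u ≠ 1 → u = z.1 := by
      intro u hu hu1
      by_contra hne
      have hz1 : ((z.1 : R) : Q) ≠ 1 := fun h => by
        have : z = 1 := Subtype.ext (Subtype.ext h)
        rw [this, orderOf_one] at hz; omega
      have hz2 : ((z.1 : R) : Q) * (z.1 : R) = 1 := by
        have := pow_orderOf_eq_one z
        rw [hz, pow_two] at this
        exact congrArg (fun c : Subgroup.center R => ((c.1 : R) : Q)) this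
      have hu2 : (u : Q) * u = 1 := by
        rw [pow_two] at hu; exact congrArg Subtype.val hu
      have hc : (z.1 : Q) * u = u * z.1 :=
        congrArg Subtype.val (Subgroup.mem_center_iff.1 z.2 u).symm
      set A := Subgroup.closure ({((z.1 : R) : Q), (u : Q)} : Set Q) with hA
      have hAR : A ≤ R := (Subgroup.closure_le _).2 (by rintro a (rfl | rfl) <;> exact SetLike.coe_mem _)
      have hcomm : ∀ a ∈ A, ∀ b ∈ A, a * b = b * a := by
        intro a ha b hb
        have hgen : ∀ p ∈ ({((z.1 : R) : Q), (u : Q)} : Set Q), ∀ q ∈ ({((z.1 : R) : Q), (u : Q)} : Set Q),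
            p * q = q * p := by
          rintro p (rfl | rfl) q (rfl | rfl)
          · rfl
          · exact hc
          · exact hc.symm
          · rfl
        exact congrArg Subtype.val ((Subgroup.closureCommGroupOfComm hgen).mul_comm ⟨a, ha⟩ ⟨b, hb⟩)
      have hexp : ∀ a ∈ A, a ^ 2 = 1 := by
        intro a ha
        induction ha using Subgroup.closure_induction with
        | mem p hp =>
          rcases hp with rfl | rfl
          · rw [pow_two, hz2]
          · rw [pow_two, hu2]
        | one => simp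
        | mul p q hp hq e1 e2 =>
          have : Commute p q := hcomm p hp q hq
          rw [this.mul_pow, e1, e2, one_mul]
        | inv p _ e1 => rw [inv_pow, e1, inv_one]
      have h3 : 3 ≤ Nat.card A := by
        haveI := Fintype.ofFinite A
        rw [Nat.card_eq_fintype_card, ← Finset.card_univ]
        refine le_trans (le_of_eq ?_) (Finset.card_le_univ
          ({1, ⟨_, Subgroup.subset_closure (Set.mem_insert _ _)⟩,
            ⟨_, Subgroup.subset_closure (Set.mem_insert_of_mem _ rfl)⟩} : Finset A))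
        rw [Finset.card_insert_of_notMem, Finset.card_pair]
        · exact fun h => hne (Subtype.ext (congrArg Subtype.val h).symm)
        · simp only [Finset.mem_insert, Finset.mem_singleton, not_or]
          exact ⟨fun h => hz1 (congrArg Subtype.val h).symm,
            fun h => hu1 (Subtype.ext (congrArg Subtype.val h).symm)⟩
      have := hrank A hAR hcomm hexp
      omega
    exact fun u v h1 h2 h3 h4 => (key u h1 h2).trans (key v h3 h4).symm
  obtain ⟨k, ⟨e⟩⟩ : ∃ k, Nonempty (R ≃* QuaternionGroup (2 ^ k)) :=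
    (Solvable.isCyclic_or_quaternion_of_unique_involution hR2 huniq).resolve_left
      fun hc => hnot2 (isPGroup_of_cyclic_pCore hO hc)
  have hodd : ∀ g : Q, Odd (orderOf g) → g ∈ R → g = 1 := by
    intro g hg hgR
    obtain ⟨n, hn⟩ := IsPGroup.iff_orderOf.1 hR2 ⟨g, hgR⟩
    rw [Subgroup.orderOf_mk] at hn
    rcases Nat.eq_zero_or_pos n with h0 | h0
    · rw [h0, pow_zero] at hn
      exact orderOf_eq_one_iff.1 hn
    · rw [hn] at hg
      exact absurd hg (Nat.not_odd_iff_even.2 (Nat.even_pow.2 ⟨even_two, h0.ne'⟩))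
  -- the quaternion group has order eight
  have hk : k = 1 := by
    by_contra hne
    rcases Nat.eq_zero_or_pos k with h0 | hk0
    · apply hnot2
      apply isPGroup_of_cyclic_pCore hO
      subst h0
      haveI : IsCyclic (QuaternionGroup (2 ^ 0)) :=
        isCyclic_of_orderOf_eq_card (QuaternionGroup.xa 0)
          (by rw [QuaternionGroup.orderOf_xa, Nat.card_eq_fintype_card, QuaternionGroup.card]; rfl)
      exact isCyclic_of_surjective e.symm e.symm.surjective
    · apply hnot2
      have hk2 : 2 ≤ k := by omega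
      obtain ⟨a, haR, ha, hA⟩ : ∃ a : Q, a ∈ R ∧ orderOf a = 2 * 2 ^ k ∧
          ∀ b ∈ R, b ∉ Subgroup.zpowers a → orderOf b = 4 := by
        refine ⟨(e.symm (.a 1) : R), SetLike.coe_mem _, ?_, ?_⟩
        · rw [Subgroup.orderOf_coe, MulEquiv.orderOf_eq, QuaternionGroup.orderOf_a_one]
        · intro b hb hba
          rw [← Subgroup.orderOf_mk b hb, ← MulEquiv.orderOf_eq e]
          rcases hbe : e ⟨b, hb⟩ with i | i
          · exfalso
            apply hba
            refine Subgroup.mem_zpowers_iff.2 ⟨(i.val : ℤ), ?_⟩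
            rw [zpow_natCast]
            have h1 : (e.symm (.a 1)) ^ i.val = (⟨b, hb⟩ : R) := by
              apply e.injective
              rw [map_pow, MulEquiv.apply_symm_apply, QuaternionGroup.a_one_pow, hbe,
                ZMod.natCast_zmod_val]
            exact congrArg Subtype.val h1
          · exact QuaternionGroup.orderOf_xa i
      have ha2k : ∃ m, orderOf a = 2 ^ m := ⟨k + 1, by rw [ha, pow_succ']⟩
      refine IsPGroup.iff_orderOf.2 fun g => ?_
      obtain ⟨m, r, hr, hgm⟩ := Nat.exists_eq_two_pow_mul_odd (orderOf_pos g).ne'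
      refine ⟨m, ?_⟩
      set y := g ^ 2 ^ m with hy
      have hyo : Odd (orderOf y) := by
        rw [hy, orderOf_pow, hgm, Nat.gcd_mul_right_left, Nat.mul_div_cancel_left _ (Nat.two_pow_pos m)]
        exact hr
      suffices y = 1 by
        apply Nat.dvd_antisymm (orderOf_dvd_of_pow_eq_one this)
        rw [hgm]; exact dvd_mul_right _ _
      have hmem : ∀ b ∈ R, orderOf b = orderOf a → b ∈ Subgroup.zpowers a := by
        intro b hb hbo
        by_contra hba
        have h4 := hA b hb hba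
        rw [hbo, ha] at h4
        have : 2 ^ 2 ≤ 2 ^ k := Nat.pow_le_pow_right (by norm_num) hk2
        omega
      have hya : y * a * y⁻¹ = a := centralize_cyclic hyo ha2k
        (hmem _ (hRn.conj_mem a haR y) (CfsgLib.Invol.orderOf_conj y a))
      apply hodd y hyo
      apply centralizer_pCore_two_le hO
      rw [Subgroup.mem_centralizer_iff]
      intro b hb
      change b ∈ R at hb
      have hidx : ((Subgroup.zpowers a).subgroupOf R).index = 2 := by
        have h1 := ((Subgroup.zpowers a).subgroupOf R).card_mul_index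
        rw [Nat.card_congr (Subgroup.subgroupOfEquivOfLe (Subgroup.zpowers_le.2 haR)).toEquiv,
          Nat.card_zpowers, ha, Nat.card_congr e.toEquiv, Nat.card_eq_fintype_card,
          QuaternionGroup.card] at h1
        have h2 : 2 * 2 ^ k * ((Subgroup.zpowers a).subgroupOf R).index = 2 * 2 ^ k * 2 := by
          rw [h1]; ring
        exact Nat.eq_of_mul_eq_mul_left (by positivity) h2
      by_cases hba : b ∈ Subgroup.zpowers a
      · obtain ⟨i, rfl⟩ := Subgroup.mem_zpowers_iff.1 hba
        have hc : Commute y a := mul_inv_eq_iff_eq_mul.1 hya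
        exact (hc.zpow_right i).eq.symm
      · have hcb := hRn.conj_mem b hb y
        have hcba : y * b * y⁻¹ ∉ Subgroup.zpowers a := fun hc => hba (by
          obtain ⟨i, hi⟩ := Subgroup.mem_zpowers_iff.1 hc
          refine Subgroup.mem_zpowers_iff.2 ⟨i, ?_⟩
          have h5 : y * a ^ i * y⁻¹ = a ^ i := by rw [← conj_zpow, hya]
          simpa using h5.trans hi)
        have hprod := (Subgroup.mul_mem_iff_of_index_two hidx (a := (⟨b, hb⟩ : R)⁻¹)
          (b := ⟨y * b * y⁻¹, hcb⟩)).2 (iff_of_false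
            (fun h => hba (by
              have := Subgroup.inv_mem _ h
              rwa [inv_inv, Subgroup.mem_subgroupOf] at this))
            (fun h => hcba (by rwa [Subgroup.mem_subgroupOf] at h)))
        rw [Subgroup.mem_subgroupOf] at hprod
        obtain ⟨i, hi⟩ := Subgroup.mem_zpowers_iff.1 hprod
        have hfix := fix_of_coprime (b := b) hyo ha2k hya ⟨i, by rw [hi]; simp⟩
        exact (mul_inv_eq_iff_eq_mul.1 hfix).symm
  subst hk
  have e' : R ≃* QuaternionGroup 2 := e
  have hR8 : Nat.card R = 8 := by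
    rw [Nat.card_congr e'.toEquiv, Nat.card_eq_fintype_card, QuaternionGroup.card]
  -- the order of the group
  have hcard : Nat.card Q = 48 := by
    set P : Sylow 2 Q := default
    obtain ⟨m, hm⟩ := IsPGroup.iff_card.1 P.isPGroup'
    have h16 : 2 ^ 4 ∣ Nat.card Q := by
      have hlt : Nat.card R < Nat.card (P : Subgroup Q) :=
        lt_of_le_of_ne (Subgroup.card_le_of_le (hRle P)) fun hh =>
          hRne P (Subgroup.eq_of_le_of_card_ge (hRle P) hh.ge)
      rw [hR8, hm, show (8 : ℕ) = 2 ^ 3 by norm_num, Nat.pow_lt_pow_iff_right (by norm_num)] at hlt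
      exact (pow_dvd_pow 2 (by omega : 4 ≤ m)).trans (hm ▸ Subgroup.card_subgroup_dvd_card _)
    set C := Subgroup.centralizer (R : Set Q) with hC
    have hC2 : Nat.card C ≤ 2 := by
      have hle : C ≤ R := centralizer_pCore_two_le hO
      refine hrank C hle ?_ ?_
      · exact fun a ha b hb => (Subgroup.mem_centralizer_iff.1 hb a (hle ha))
      · intro a ha
        have h1 : e' ⟨a, hle ha⟩ * e' ⟨a, hle ha⟩ = 1 := (q8_center _).1 fun b => by
          obtain ⟨s, rfl⟩ := e'.surjective b
          rw [← map_mul, ← map_mul]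
          exact congrArg e' (Subtype.ext (Subgroup.mem_centralizer_iff.1 ha s s.2).symm)
        rw [← map_mul, MulEquiv.map_eq_one_iff] at h1
        rw [pow_two]; exact congrArg Subtype.val h1
    have hidx : C.index ≤ 24 := by
      refine le_trans ?_ (card_mulAut_le e')
      have hker : (MulAut.conjNormal : Q →* MulAut R).ker = C := by
        ext g
        rw [MonoidHom.mem_ker, hC, Subgroup.mem_centralizer_iff]
        refine ⟨fun h q hq => ?_, fun h => ?_⟩
        · have := congrArg (fun φ : MulAut R => ((φ ⟨q, hq⟩ : R) : Q)) h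
          simp only [MulAut.conjNormal_apply, MulAut.one_apply] at this
          exact (mul_inv_eq_iff_eq_mul.1 this).symm
        · ext q
          rw [MulAut.conjNormal_apply, MulAut.one_apply, mul_inv_eq_iff_eq_mul]
          exact (h q q.2).symm
      haveI : Finite (MulAut R) := Finite.of_injective (fun f => (f : R → R)) DFunLike.coe_injective
      rw [← hker, Subgroup.index_ker]
      exact Subgroup.card_le_card_group _
    have hle48 : Nat.card Q ≤ 48 := by
      rw [← C.card_mul_index]; exact Nat.mul_le_mul hC2 hidx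
    obtain ⟨d, hd⟩ := h16
    have hd0 : 0 < d := Nat.pos_of_ne_zero fun h => by rw [h] at hd; exact Nat.card_pos.ne' hd
    by_contra hne
    apply hnot2
    have : d = 1 ∨ d = 2 := by omega
    rcases this with rfl | rfl
    · exact IsPGroup.of_card (n := 4) (by rw [hd, mul_one])
    · exact IsPGroup.of_card (n := 5) (by rw [hd]; norm_num)
  have hdata : CoreData R := ⟨hRn, ⟨e'⟩, centralizer_pCore_two_le hO, hcore, hcard⟩
  by_cases hinv : ∃ t : Q, orderOf t = 2 ∧ t ∉ R
  · obtain ⟨t, ht, htR⟩ := hinv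
    exact Or.inl (hdata.iso_gl23 ht htR)
  push Not at hinv
  refine Or.inr ⟨hcard, hdata.card_center, hdata.quotient_center_perm, fun P => ?_⟩
  have hP16 : Nat.card (P : Subgroup Q) = 16 := by
    rw [Sylow.card_eq_multiplicity, hcard, show (48 : ℕ) = 2 ^ 4 * 3 by norm_num,
      Nat.factorization_mul (by norm_num) (by norm_num), Finsupp.add_apply,
      Nat.Prime.factorization_pow Nat.prime_two, Nat.Prime.factorization Nat.prime_three,
      Finsupp.single_eq_same, Finsupp.single_eq_of_ne (by norm_num : (2 : ℕ) ≠ 3)]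
    rfl
  have huP : ∀ u v : (P : Subgroup Q), u ^ 2 = 1 → u ≠ 1 → v ^ 2 = 1 → v ≠ 1 → u = v := by
    intro u v hu hu1 hv hv1
    have hmem : ∀ w : (P : Subgroup Q), w ^ 2 = 1 → w ≠ 1 → (w : Q) ∈ R := fun w hw hw1 =>
      hinv w (orderOf_eq_prime (by rw [← SubmonoidClass.coe_pow, hw]; rfl)
        (fun h => hw1 (Subtype.ext h)))
    have := huniq ⟨u, hmem u hu hu1⟩ ⟨v, hmem v hv hv1⟩
      (Subtype.ext (by simpa using congrArg Subtype.val hu)) (fun h => hu1 (Subtype.ext (congrArg Subtype.val h :)))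
      (Subtype.ext (by simpa using congrArg Subtype.val hv)) (fun h => hv1 (Subtype.ext (congrArg Subtype.val h :)))
    exact Subtype.ext (congrArg Subtype.val this :)
  rcases Solvable.isCyclic_or_quaternion_of_unique_involution P.isPGroup' huP with hc | ⟨j, ⟨f⟩⟩
  · exfalso
    haveI := hc
    haveI : IsCyclic R := isCyclic_of_injective (Subgroup.inclusion (hRle P)) (Subgroup.inclusion_injective _)
    exact hnot2 (isPGroup_of_cyclic_pCore hO this)
  · have h1 : 16 = 4 * 2 ^ j := by
      rw [← hP16, Nat.card_congr f.toEquiv, Nat.card_eq_fintype_card, QuaternionGroup.card]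
    have hj : j = 2 := Nat.pow_right_injective le_rfl (show 2 ^ j = 2 ^ 2 by omega)
    subst hj
    exact ⟨f⟩

end CfsgLib.InvChar.RankOne

namespace CfsgLib.InvChar.RankOne

/-- The intersection hypothesis passes to quotients by odd order normal subgroups. -/
theorem inter_rank_quotient {G : Type*} [Group G] [Finite G] (N : Subgroup G) [N.Normal]
    (hN : (Nat.card N).Coprime 2)
    (hI : ∀ S T : Sylow 2 G, S ≠ T → Cfsg.PRankLE 2 1 ↥((S : Subgroup G) ⊓ (T : Subgroup G)))
    (S' T' : Sylow 2 (G ⧸ N)) (hne : S' ≠ T') :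
    Cfsg.PRankLE 2 1 ↥((S' : Subgroup (G ⧸ N)) ⊓ (T' : Subgroup (G ⧸ N))) := by
  classical
  haveI : Fact (Nat.Prime 2) := ⟨Nat.prime_two⟩
  intro A hAc hA2
  set π := QuotientGroup.mk' N with hπ
  have hsurj : Function.Surjective π := QuotientGroup.mk'_surjective N
  set B : Subgroup (G ⧸ N) := A.map ((S' : Subgroup (G ⧸ N)) ⊓ T').subtype with hB
  have hBA : Nat.card B = Nat.card A := Subgroup.card_map_of_injective (Subgroup.subtype_injective _)
  have hBle : ∀ b ∈ B, b ∈ (S' : Subgroup (G ⧸ N)) ∧ b ∈ (T' : Subgroup (G ⧸ N)) := by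
    rintro _ ⟨b, -, rfl⟩; exact Subgroup.mem_inf.1 b.2
  have hB2 : ∀ b ∈ B, b ^ 2 = 1 := by
    rintro _ ⟨b, hb, rfl⟩
    rw [← map_pow, hA2 b hb, map_one]
  have hBc : ∀ a ∈ B, ∀ b ∈ B, a * b = b * a := by
    rintro _ ⟨a, ha, rfl⟩ _ ⟨b, hb, rfl⟩
    rw [← map_mul, ← map_mul, setLike_mul_comm ha hb]
  set X := B.comap π with hX
  obtain ⟨U⟩ : Nonempty (Sylow 2 X) := inferInstance
  set U' : Subgroup G := (U : Subgroup X).map X.subtype with hU'
  have hinj : ∀ u ∈ U', π u = 1 → u = 1 := by
    rintro _ ⟨u, hu, rfl⟩ h1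
    have hmem : (u : G) ∈ N := (QuotientGroup.eq_one_iff _).1 h1
    obtain ⟨m, hm⟩ := IsPGroup.iff_orderOf.1 U.isPGroup' ⟨u, hu⟩
    rw [Subgroup.orderOf_mk] at hm
    have hd : orderOf u ∣ Nat.card N := by
      rw [← Subgroup.orderOf_coe, ← Subgroup.orderOf_mk (u : G) hmem]
      exact orderOf_dvd_natCard _
    have h1' : orderOf u = 1 := by
      rw [hm] at hd ⊢
      exact Nat.dvd_one.1 ((hN.pow_right m).symm.dvd_of_dvd_mul_left
        (show 2 ^ m ∣ Nat.card N * 1 by rw [mul_one]; exact hd))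
    rw [orderOf_eq_one_iff] at h1'
    rw [h1']; rfl
  have hBp : IsPGroup 2 B := fun b => ⟨1, Subtype.ext (by simpa using hB2 b.1 b.2)⟩
  have hcard : Nat.card U' = Nat.card B := by
    have h1 : Nat.card X = Nat.card N * Nat.card B := by
      have e := (N.subgroupOf X).card_mul_index
      have hle : N ≤ X := fun n hn => by
        rw [hX, Subgroup.mem_comap, hπ, QuotientGroup.mk'_apply, (QuotientGroup.eq_one_iff n).2 hn]
        exact B.one_mem
      rw [Nat.card_congr (Subgroup.subgroupOfEquivOfLe hle).toEquiv] at e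
      rw [← e]
      congr 1
      let f : X →* B := (π.comp X.subtype).codRestrict B fun x => x.2
      have hf : N.subgroupOf X = f.ker := by
        ext x
        rw [Subgroup.mem_subgroupOf, MonoidHom.mem_ker, Subtype.ext_iff]
        exact (QuotientGroup.eq_one_iff _).symm
      have hfs : Function.Surjective f := fun b => by
        obtain ⟨g, hg⟩ := hsurj b.1
        exact ⟨⟨g, by rw [hX, Subgroup.mem_comap, hg]; exact b.2⟩, Subtype.ext hg⟩
      rw [hf, Subgroup.index_ker, MonoidHom.range_eq_top.2 hfs, Subgroup.card_top]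
    obtain ⟨b, hb⟩ := IsPGroup.iff_card.1 hBp
    rw [hU', Subgroup.card_map_of_injective X.subtype_injective, Sylow.card_eq_multiplicity, h1,
      hb, Nat.factorization_mul Nat.card_pos.ne' (by positivity), Finsupp.add_apply,
      Nat.Prime.factorization_pow Nat.prime_two, Finsupp.single_eq_same,
      Nat.factorization_eq_zero_of_not_dvd ((Nat.Prime.coprime_iff_not_dvd Nat.prime_two).1 hN.symm),
      zero_add]
  have hUmem : ∀ u ∈ U', π u ∈ B := by rintro _ ⟨u, -, rfl⟩; exact u.2
  have hU'p : IsPGroup 2 U' := U.isPGroup'.map X.subtype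
  have hlift : ∀ R' : Sylow 2 (G ⧸ N), (∀ b ∈ B, b ∈ (R' : Subgroup (G ⧸ N))) →
      ∃ R : Sylow 2 G, R.mapSurjective hsurj = R' ∧ U' ≤ (R : Subgroup G) := by
    intro R' hR'
    obtain ⟨R₀, hR₀⟩ := Sylow.mapSurjective_surjective hsurj 2 R'
    set H : Subgroup G := (R' : Subgroup (G ⧸ N)).comap π with hH
    have hR₀H : (R₀ : Subgroup G) ≤ H := fun r hr => by
      rw [hH, Subgroup.mem_comap, ← hR₀]
      exact ⟨r, hr, rfl⟩
    have hUH : U' ≤ H := fun u hu => hR' _ (hUmem u hu)
    obtain ⟨V, hV⟩ := (hU'p.comap_of_injective H.subtype H.subtype_injective :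
      IsPGroup 2 (U'.subgroupOf H)).exists_le_sylow
    obtain ⟨h, hh⟩ := MulAction.exists_smul_eq H (R₀.subtype hR₀H) V
    refine ⟨(h : G) • R₀, ?_, ?_⟩
    · apply Sylow.ext
      refine ((((h : G) • R₀).mapSurjective hsurj).is_maximal' R'.isPGroup' ?_).symm
      rintro _ ⟨r, hr, rfl⟩
      change r ∈ (((h : G) • R₀ : Sylow 2 G) : Subgroup G) at hr
      rw [Sylow.coe_subgroup_smul, Subgroup.mem_pointwise_smul_iff_inv_smul_mem] at hr
      have h1 : (h : G)⁻¹ * r * (h : G) ∈ H := hR₀H (by simpa [MulAut.smul_def] using hr)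
      have h2 : r ∈ H := by simpa [mul_assoc] using H.mul_mem (H.mul_mem h.2 h1) (H.inv_mem h.2)
      exact h2
    · intro u hu
      have hu' : (⟨u, hUH hu⟩ : H) ∈ V := hV hu
      rw [← hh] at hu'
      change (⟨u, hUH hu⟩ : H) ∈ ((h • R₀.subtype hR₀H : Sylow 2 H) : Subgroup H) at hu'
      rw [Sylow.coe_subgroup_smul, Subgroup.mem_pointwise_smul_iff_inv_smul_mem] at hu'
      show u ∈ ((h : G) • R₀ : Sylow 2 G).toSubgroup
      rw [Sylow.coe_subgroup_smul, Subgroup.mem_pointwise_smul_iff_inv_smul_mem]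
      simpa [MulAut.smul_def, Sylow.coe_subtype, Subgroup.mem_subgroupOf] using hu'
  obtain ⟨S, hS, hUS⟩ := hlift S' fun b hb => (hBle b hb).1
  obtain ⟨T, hT, hUT⟩ := hlift T' fun b hb => (hBle b hb).2
  have hST : S ≠ T := fun e => hne (by rw [← hS, ← hT, e])
  have hc : IsMulCommutative (U'.subgroupOf ((S : Subgroup G) ⊓ T)) := ⟨⟨fun a b => by
    apply Subtype.ext
    apply Subtype.ext
    show ((a : ↥((S : Subgroup G) ⊓ T)) : G) * b = (b : ↥((S : Subgroup G) ⊓ T)) * a
    rw [← mul_inv_eq_one]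
    apply hinj _ (U'.mul_mem (U'.mul_mem a.2 b.2) (U'.inv_mem (U'.mul_mem b.2 a.2)))
    rw [map_mul, map_mul, map_inv, map_mul, hBc _ (hUmem _ a.2) _ (hUmem _ b.2), mul_inv_cancel]⟩⟩
  have h2 : ∀ a ∈ U'.subgroupOf ((S : Subgroup G) ⊓ T), a ^ 2 = 1 := fun a ha => by
    apply Subtype.ext
    show (a : G) ^ 2 = 1
    apply hinj _ (U'.pow_mem ha 2)
    rw [map_pow, hB2 _ (hUmem _ ha)]
  have h := hI S T hST _ hc h2
  rw [Nat.card_congr (Subgroup.subgroupOfEquivOfLe (le_inf hUS hUT)).toEquiv, hcard, hBA] at h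
  exact h

end CfsgLib.InvChar.RankOne
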