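import Cfsg.Agent.Lib.InvChar.RankOneInter.QuaternionCore
import Cfsg.Agent.Lib.Invol.BaerSuzuki
import Cfsg.Agent.Lib.Solvable.Core
import Mathlib.GroupTheory.Sylow
import Mathlib.GroupTheory.Perm.Basic

/-!
# Solvable groups whose 2-core is quaternion
-/

set_option autoImplicit false

namespace CfsgLib.InvChar.RankOne

variable {Q : Type*} [Group Q] [Finite Q]

/-- The cube of an element of order three. -/
theorem three_mul {y : Q} (hy : orderOf y = 3) : y * y * y = 1 := by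
  have h := pow_orderOf_eq_one y
  rw [hy, pow_succ, pow_two] at h
  exact h

/-- An odd element centralizing `a` and mapping `b` into `b⟨a⟩` fixes `b`. -/
theorem fix_of_coprime {y a b : Q} (hodd : Odd (orderOf y)) (ha : ∃ k, orderOf a = 2 ^ k)
    (hya : y * a * y⁻¹ = a) (hyb : ∃ m : ℤ, y * b * y⁻¹ = b * a ^ m) : y * b * y⁻¹ = b := by
  obtain ⟨m, hm⟩ := hyb
  have hit : ∀ n : ℕ, y ^ n * b * (y ^ n)⁻¹ = b * a ^ (m * n) := by
    intro n
    induction n with
    | zero => simp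
    | succ n ih =>
      have hyam : y * a ^ (m * n) * y⁻¹ = a ^ (m * n) := by rw [← conj_zpow, hya]
      calc y ^ (n + 1) * b * (y ^ (n + 1))⁻¹ = y * (y ^ n * b * (y ^ n)⁻¹) * y⁻¹ := by
            rw [pow_succ']; group
        _ = y * (b * a ^ (m * n)) * y⁻¹ := by rw [ih]
        _ = (y * b * y⁻¹) * (y * a ^ (m * n) * y⁻¹) := by group
        _ = b * a ^ m * a ^ (m * n) := by rw [hm, hyam]
        _ = b * a ^ (m * (n + 1 : ℕ)) := by
            rw [mul_assoc, ← zpow_add]; congr 2; push_cast; ring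
  have h1 := hit (orderOf y)
  rw [pow_orderOf_eq_one, inv_one, mul_one, one_mul, left_eq_mul] at h1
  obtain ⟨k, hk⟩ := ha
  have hd : (orderOf a : ℤ) ∣ m * (orderOf y : ℕ) := orderOf_dvd_iff_zpow_eq_one.2 h1
  have hcop : IsCoprime ((orderOf a : ℕ) : ℤ) ((orderOf y : ℕ) : ℤ) := by
    rw [Int.isCoprime_iff_nat_coprime, Int.natAbs_natCast, Int.natAbs_natCast, hk]
    exact Nat.Coprime.pow_left k (Nat.coprime_two_left.2 hodd)
  rw [hm, orderOf_dvd_iff_zpow_eq_one.1 (hcop.dvd_of_dvd_mul_right hd), mul_one]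

/-- An odd element normalizing a cyclic 2-group centralizes it. -/
theorem centralize_cyclic {y a : Q} (hodd : Odd (orderOf y)) (ha : ∃ k, orderOf a = 2 ^ k)
    (hya : y * a * y⁻¹ ∈ Subgroup.zpowers a) : y * a * y⁻¹ = a := by
  set A := Subgroup.zpowers a with hA
  set H := Subgroup.normalizer (A : Set Q) with hH
  have hyH : y ∈ H := by
    rw [hH, hA, Subgroup.zpowers_eq_closure]
    refine mem_normalizer_closure fun s hs => ?_
    rw [Set.mem_singleton_iff] at hs
    rw [hs, ← Subgroup.zpowers_eq_closure]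
    exact hya
  set B := A.subgroupOf H with hB
  haveI : B.Normal := Subgroup.normal_subgroupOf_of_le_normalizer le_rfl
  have e : B ≃* A := Subgroup.subgroupOfEquivOfLe Subgroup.le_normalizer
  haveI : IsCyclic A := Subgroup.isCyclic_zpowers a
  haveI : IsCyclic B := isCyclic_of_surjective e.symm e.symm.surjective
  haveI : Fact (Nat.Prime 2) := ⟨Nat.prime_two⟩
  obtain ⟨k, hk⟩ := ha
  have hB2 : IsPGroup 2 B := IsPGroup.of_card (n := k)
    (by rw [Nat.card_congr e.toEquiv, hA, Nat.card_zpowers, hk])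
  obtain ⟨n, hn⟩ := exists_index_centralizer_eq_two_pow B hB2
  haveI : (Subgroup.centralizer (B : Set H)).Normal := Subgroup.normal_centralizer
  have h1 := (Subgroup.centralizer (B : Set H)).pow_index_mem ⟨y, hyH⟩
  rw [hn] at h1
  obtain ⟨m, hm⟩ := exists_pow_eq_self_of_coprime (x := (⟨y, hyH⟩ : H)) (n := 2 ^ n)
    (by rw [Subgroup.orderOf_mk]; exact Nat.Coprime.pow_left n (Nat.coprime_two_left.2 hodd))
  have h2 := Subgroup.pow_mem _ h1 m
  rw [hm, Subgroup.mem_centralizer_iff] at h2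
  have h3 := congrArg Subtype.val (h2 ⟨a, Subgroup.le_normalizer (Subgroup.mem_zpowers a)⟩
    (Subgroup.mem_zpowers a))
  rw [mul_inv_eq_iff_eq_mul]
  exact h3.symm

/-- The data of the quaternion core. -/
structure CoreData (R : Subgroup Q) : Prop where
  normal : R.Normal
  iso : Nonempty (R ≃* QuaternionGroup 2)
  cent : Subgroup.centralizer (R : Set Q) ≤ R
  core : ∀ N : Subgroup Q, N.Normal → IsPGroup 2 N → N ≤ R
  card : Nat.card Q = 48

namespace CoreData

variable {R : Subgroup Q} (h : CoreData R)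
include h

theorem center_iff {g : Q} : g ∈ Subgroup.center Q ↔ g ∈ R ∧ g * g = 1 := by
  obtain ⟨e⟩ := h.iso
  haveI := h.normal
  have hzR : ∀ r : R, (∀ s : R, r * s = s * r) ↔ r * r = 1 := fun r => by
    rw [← e.injective.eq_iff, map_mul, map_one, ← q8_center]
    exact ⟨fun hr b => by
      obtain ⟨s, rfl⟩ := e.surjective b
      rw [← map_mul, ← map_mul, hr], fun hr s => e.injective (by rw [map_mul, map_mul, hr])⟩
  constructor
  · intro hg
    have hgR : g ∈ R := h.cent (Subgroup.mem_centralizer_iff.2 fun r _ =>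
      Subgroup.mem_center_iff.1 hg r)
    exact ⟨hgR, congrArg Subtype.val ((hzR ⟨g, hgR⟩).1
      fun s => Subtype.ext (Subgroup.mem_center_iff.1 hg s).symm)⟩
  · rintro ⟨hgR, hg2⟩
    rw [Subgroup.mem_center_iff]
    intro x
    classical
    by_cases hg1 : g = 1
    · simp [hg1]
    have hconj : x * g * x⁻¹ ∈ R := h.normal.conj_mem g hgR x
    have hu : ∀ r : R, r * r = 1 → r ≠ 1 → r = ⟨g, hgR⟩ := by
      intro r hr hr1
      by_contra hne
      haveI := Fintype.ofEquiv _ e.symm.toEquiv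
      have h3 : ({1, e r, e ⟨g, hgR⟩} : Finset (QuaternionGroup 2)).card = 3 := by
        rw [Finset.card_insert_of_notMem, Finset.card_pair]
        · exact fun hh => hne (e.injective hh)
        · simp only [Finset.mem_insert, Finset.mem_singleton, not_or]
          exact ⟨fun hh => hr1 (e.injective (hh.symm.trans (map_one e).symm)),
            fun hh => hg1 (congrArg Subtype.val (e.injective (hh.symm.trans (map_one e).symm)) :)⟩
      have := Finset.card_le_card (s := ({1, e r, e ⟨g, hgR⟩} : Finset (QuaternionGroup 2)))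
        (t := Finset.univ.filter fun a => a * a = 1) (fun a ha => by
          simp only [Finset.mem_insert, Finset.mem_singleton] at ha
          simp only [Finset.mem_filter, Finset.mem_univ, true_and]
          rcases ha with rfl | rfl | rfl
          · exact one_mul 1
          · rw [← map_mul, hr, map_one]
          · rw [← map_mul, show (⟨g, hgR⟩ : R) * ⟨g, hgR⟩ = 1 from Subtype.ext hg2, map_one])
      rw [h3, q8_card_invol] at this
      omega
    have := congrArg Subtype.val (hu ⟨x * g * x⁻¹, hconj⟩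
      (Subtype.ext (by
        show x * g * x⁻¹ * (x * g * x⁻¹) = 1
        calc x * g * x⁻¹ * (x * g * x⁻¹) = x * (g * g) * x⁻¹ := by group
          _ = 1 := by rw [hg2]; group))
      (fun hh => hg1 (by simpa using congrArg Subtype.val hh)))
    exact mul_inv_eq_iff_eq_mul.1 this

theorem card_center : Nat.card (Subgroup.center Q) = 2 := by
  classical
  obtain ⟨e⟩ := h.iso
  rw [← q8_card_invol, ← Fintype.card_subtype, ← Nat.card_eq_fintype_card]
  refine Nat.card_congr
    { toFun := fun g => ⟨e ⟨g, (h.center_iff.1 g.2).1⟩, by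
        rw [← map_mul, show (⟨(g : Q), (h.center_iff.1 g.2).1⟩ : R) * ⟨(g : Q), (h.center_iff.1 g.2).1⟩
          = 1 from Subtype.ext (h.center_iff.1 g.2).2, map_one]⟩
      invFun := fun a => ⟨(e.symm a.1 : Q), h.center_iff.2 ⟨(e.symm a.1).2, by
        rw [← Subgroup.coe_mul, ← map_mul, a.2, map_one, Subgroup.coe_one]⟩⟩
      left_inv := fun g => by simp
      right_inv := fun a => by simp }

theorem facts {a b : Q} (ha : a ∈ R) (ha2 : a * a ≠ 1) (hb : b ∈ R)
    (hba : b ∉ Subgroup.zpowers a) :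
    b * b = a * a ∧ b * a * b⁻¹ = a⁻¹ ∧ b * b ≠ 1 := by
  obtain ⟨e⟩ := h.iso
  rcases (q8_facts (e ⟨a, ha⟩) (e ⟨b, hb⟩) (fun hh => ha2 (by
    rw [← map_mul] at hh
    exact congrArg Subtype.val (e.injective (hh.trans (map_one e).symm))))).2 with
    (h1 | h1 | h1 | h1) | ⟨h1, h2, h3⟩
  · exact absurd (by rw [show b = 1 from congrArg Subtype.val (e.injective (h1.trans (map_one e).symm))]; exact one_mem _) hba
  · exact absurd (by rw [show b = a from congrArg Subtype.val (e.injective h1)]; exact Subgroup.mem_zpowers a) hba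
  · rw [← map_mul] at h1
    exact absurd (by
      rw [show b = a * a from congrArg Subtype.val (e.injective h1)]
      exact Subgroup.mul_mem _ (Subgroup.mem_zpowers a) (Subgroup.mem_zpowers a)) hba
  · rw [← map_inv] at h1
    exact absurd (by
      rw [show b = a⁻¹ from congrArg Subtype.val (e.injective h1)]
      exact Subgroup.inv_mem _ (Subgroup.mem_zpowers a)) hba
  · rw [← map_mul, ← map_mul] at h1
    rw [← map_inv, ← map_mul, ← map_mul, ← map_inv] at h2
    refine ⟨congrArg Subtype.val (e.injective h1), congrArg Subtype.val (e.injective h2), fun hh => h3 ?_⟩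
    rw [← map_mul, show (⟨b, hb⟩ : R) * ⟨b, hb⟩ = 1 from Subtype.ext hh, map_one]

theorem pow_four {a : Q} (ha : a ∈ R) (ha2 : a * a ≠ 1) : a ^ 4 = 1 := by
  obtain ⟨e⟩ := h.iso
  have h1 := (q8_facts (e ⟨a, ha⟩) 1 (fun hh => ha2 (by
    rw [← map_mul] at hh
    exact congrArg Subtype.val (e.injective (hh.trans (map_one e).symm))))).1
  rw [← map_pow] at h1
  exact congrArg Subtype.val (e.injective (h1.trans (map_one e).symm))

theorem orderOf_four {a : Q} (ha : a ∈ R) (ha2 : a * a ≠ 1) : orderOf a = 4 := by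
  have h1 : orderOf a ∣ 4 := orderOf_dvd_of_pow_eq_one (h.pow_four ha ha2)
  have h2 : ¬ orderOf a ∣ 2 := fun hd => ha2 (by rw [← pow_two]; exact orderOf_dvd_iff_pow_eq_one.1 hd)
  have := Nat.le_of_dvd (by norm_num) h1
  interval_cases (orderOf a) <;> norm_num at *

/-- An odd element moves every cyclic subgroup of order four. -/
theorem conj_notMem {y : Q} (hy : Odd (orderOf y)) (hy1 : y ≠ 1) {a : Q} (ha : a ∈ R)
    (ha2 : a * a ≠ 1) : y * a * y⁻¹ ∉ Subgroup.zpowers a := by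
  intro hmem
  have hya : y * a * y⁻¹ = a :=
    centralize_cyclic hy ⟨2, by rw [h.orderOf_four ha ha2]; norm_num⟩ hmem
  have hyC : y ∈ Subgroup.centralizer (R : Set Q) := by
    rw [Subgroup.mem_centralizer_iff]
    intro b hb
    by_cases hba : b ∈ Subgroup.zpowers a
    · obtain ⟨k, rfl⟩ := Subgroup.mem_zpowers_iff.1 hba
      have hc : Commute y a := mul_inv_eq_iff_eq_mul.1 hya
      exact (hc.zpow_right k).eq.symm
    · have hcb : y * b * y⁻¹ ∈ R := h.normal.conj_mem b hb y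
      have hm : b⁻¹ * (y * b * y⁻¹) ∈ Subgroup.zpowers a := by
        by_contra hne
        obtain ⟨hb2, hbab, -⟩ := h.facts ha ha2 hb hba
        obtain ⟨-, hc, -⟩ := h.facts ha ha2 hcb (fun hcm => hba (by
          obtain ⟨k, hk⟩ := Subgroup.mem_zpowers_iff.1 hcm
          refine Subgroup.mem_zpowers_iff.2 ⟨k, ?_⟩
          have h5 : y * a ^ k * y⁻¹ = a ^ k := by rw [← conj_zpow, hya]
          have := h5.trans hk
          simpa using this))
        obtain ⟨-, hd, -⟩ := h.facts ha ha2 (R.mul_mem (R.inv_mem hb) hcb) hne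
        have h5 : b⁻¹ * (y * b * y⁻¹) * a * (b⁻¹ * (y * b * y⁻¹))⁻¹ = a := by
          calc b⁻¹ * (y * b * y⁻¹) * a * (b⁻¹ * (y * b * y⁻¹))⁻¹
              = b⁻¹ * ((y * b * y⁻¹) * a * (y * b * y⁻¹)⁻¹) * b := by group
            _ = b⁻¹ * a⁻¹ * b := by rw [hc]
            _ = b⁻¹ * (b * a * b⁻¹) * b := by rw [hbab]
            _ = a := by group
        rw [h5] at hd
        exact ha2 (mul_eq_one_iff_eq_inv.2 hd)
      obtain ⟨m, hm'⟩ := Subgroup.mem_zpowers_iff.1 hm
      have hfix := fix_of_coprime (b := b) hy ⟨2, by rw [h.orderOf_four ha ha2]; norm_num⟩ hya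
        ⟨m, by rw [hm']; group⟩
      exact (mul_inv_eq_iff_eq_mul.1 hfix).symm
  have hyR := h.cent hyC
  have hd : orderOf y ∣ 8 := by
    obtain ⟨e⟩ := h.iso
    rw [← Subgroup.orderOf_mk y hyR]
    refine (orderOf_dvd_natCard _).trans ?_
    rw [Nat.card_congr e.toEquiv, Nat.card_eq_fintype_card, QuaternionGroup.card]
  obtain ⟨k, -, hk⟩ := (Nat.dvd_prime_pow Nat.prime_two).1 (show orderOf y ∣ 2 ^ 3 from hd)
  rw [hk] at hy
  rcases Nat.eq_zero_or_pos k with rfl | hk0
  · exact hy1 (orderOf_eq_one_iff.1 (by rw [hk, pow_zero]))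
  · exact (Nat.not_even_iff_odd.2 hy) (Nat.even_pow.2 ⟨even_two, hk0.ne'⟩)

/-- The three cyclic subgroups are cycled. -/
theorem third {y a : Q} (hy : orderOf y = 3) (ha : a ∈ R) (ha2 : a * a ≠ 1) :
    y * (y * a * y⁻¹) * y⁻¹ = a * (y * a * y⁻¹) ∨ y * (y * a * y⁻¹) * y⁻¹ = (y * a * y⁻¹) * a := by
  have hodd : Odd (orderOf y) := by rw [hy]; decide
  have hy1 : y ≠ 1 := fun hh => by rw [hh, orderOf_one] at hy; omega
  set b := y * a * y⁻¹ with hb
  set c := y * b * y⁻¹ with hc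
  have hsq : ∀ g x : Q, g * x * g⁻¹ * (g * x * g⁻¹) = 1 → x * x = 1 := fun g x hh => by
    calc x * x = g⁻¹ * (g * x * g⁻¹ * (g * x * g⁻¹)) * g := by group
      _ = 1 := by rw [hh]; group
  have hbR : b ∈ R := h.normal.conj_mem a ha y
  have hcR : c ∈ R := h.normal.conj_mem b hbR y
  have hb2 : b * b ≠ 1 := fun hh => ha2 (hsq y a hh)
  have hc2 : c * c ≠ 1 := fun hh => hb2 (hsq y b hh)
  have hy2 : Odd (orderOf (y * y)) := by
    rw [← pow_two, Nat.Coprime.orderOf_pow (by rw [hy]; norm_num)]; exact hodd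
  have hy21 : y * y ≠ 1 := fun hh => by
    have : orderOf y ∣ 2 := orderOf_dvd_of_pow_eq_one (by rw [pow_two]; exact hh)
    rw [hy] at this; omega
  have n1 := h.conj_notMem hodd hy1 ha ha2
  have n2 := h.conj_notMem hodd hy1 hbR hb2
  have n3 := h.conj_notMem hy2 hy21 ha ha2
  have ec : y * y * a * (y * y)⁻¹ = c := by rw [hc, hb]; group
  rw [ec] at n3
  obtain ⟨e⟩ := h.iso
  have hE : ∀ {x : Q} (hx : x ∈ R), x * x ≠ 1 → e ⟨x, hx⟩ * e ⟨x, hx⟩ ≠ 1 := fun hx hne hh =>
    hne (by rw [← map_mul] at hh; exact congrArg Subtype.val (e.injective (hh.trans (map_one e).symm)))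
  have hne : ∀ {u v : Q} (hu : u ∈ R) (hv : v ∈ R), u ∉ Subgroup.zpowers v →
      e ⟨u, hu⟩ ≠ e ⟨v, hv⟩ ∧ e ⟨u, hu⟩ ≠ (e ⟨v, hv⟩)⁻¹ := fun {u v} hu hv hnm => by
    refine ⟨fun hh => hnm ?_, fun hh => hnm ?_⟩
    · rw [show u = v from congrArg Subtype.val (e.injective hh)]; exact Subgroup.mem_zpowers v
    · rw [← map_inv] at hh
      rw [show u = v⁻¹ from congrArg Subtype.val (e.injective hh)]
      exact Subgroup.inv_mem _ (Subgroup.mem_zpowers v)
  rcases q8_third _ _ _ (hE ha ha2) (hE hbR hb2) (hE hcR hc2) (hne hbR ha n1).1 (hne hbR ha n1).2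
    (hne hcR ha n3).1 (hne hcR ha n3).2 (hne hcR hbR n2).1 (hne hcR hbR n2).2 with hh | hh
  · rw [← map_mul] at hh; exact Or.inl (congrArg Subtype.val (e.injective hh))
  · rw [← map_mul] at hh; exact Or.inr (congrArg Subtype.val (e.injective hh))

/-- Relations from a fixed cyclic subgroup. -/
theorem exists_rel {y t a : Q} (hy : orderOf y = 3) (ht : t * t = 1) (hty : t * y * t⁻¹ = y⁻¹)
    (ha : a ∈ R) (ha2 : a * a ≠ 1) (hta : t * a * t⁻¹ = a ∨ t * a * t⁻¹ = a⁻¹) :
    ∃ i j y' : Q, Rel i j y' t ∧ i ∈ R ∧ j ∈ R ∧ orderOf i = 4 ∧ j ∉ Subgroup.zpowers i ∧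
      orderOf y' = 3 := by
  have key : ∀ y : Q, orderOf y = 3 → t * y * t⁻¹ = y⁻¹ →
      y * (y * a * y⁻¹) * y⁻¹ = a * (y * a * y⁻¹) → Rel a (y * a * y⁻¹) y t := by
    intro y hy hty hyj
    set j := y * a * y⁻¹ with hj
    have hodd : Odd (orderOf y) := by rw [hy]; decide
    have hy1 : y ≠ 1 := fun hh => by rw [hh, orderOf_one] at hy; omega
    have hy3 : y * y * y = 1 := three_mul hy
    have hjn := h.conj_notMem hodd hy1 ha ha2
    obtain ⟨hjj, hji, -⟩ := h.facts ha ha2 (h.normal.conj_mem a ha y) hjn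
    have hcyc : y⁻¹ * a * y = a * j := by
      rw [← hyj, hj]
      have : y⁻¹ = y * y := inv_eq_of_mul_eq_one_left hy3
      calc y⁻¹ * a * y = (y * y) * a * (y * y)⁻¹ := by rw [← this, inv_inv]
        _ = y * (y * a * y⁻¹) * y⁻¹ := by group
    have htj : ∀ s : Q, t * a * t⁻¹ = s → t * j * t⁻¹ = y⁻¹ * s * y := fun s hs => by
      rw [hj, ← hs]
      calc t * (y * a * y⁻¹) * t⁻¹ = (t * y * t⁻¹) * (t * a * t⁻¹) * (t * y * t⁻¹)⁻¹ := by group
        _ = y⁻¹ * (t * a * t⁻¹) * y := by rw [hty, inv_inv]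
    rcases hta with hta | hta
    · exfalso
      apply ha2
      have h1 := htj a hta
      rw [hcyc] at h1
      have h2 : t * (t * j * t⁻¹) * t⁻¹ = j := by
        rw [inv_eq_of_mul_eq_one_left ht]
        calc t * (t * j * t) * t = (t * t) * j * (t * t) := by group
          _ = j := by rw [ht]; group
      rw [h1, show t * (a * j) * t⁻¹ = (t * a * t⁻¹) * (t * j * t⁻¹) by group, h1, hta,
        ← mul_assoc] at h2
      exact mul_eq_right.1 h2
    · exact
      { i4 := h.pow_four ha ha2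
        jj := hjj
        ji := hji
        y3 := by rw [← hy, pow_orderOf_eq_one]
        tt := ht
        ty := hty
        yi := rfl
        yj := hyj
        ti := hta
        tj := by
          rw [htj _ hta, ← hcyc]
          group }
  rcases h.third hy ha ha2 with hh | hh
  · exact ⟨a, _, y, key y hy hty hh, ha, h.normal.conj_mem a ha y, h.orderOf_four ha ha2,
      h.conj_notMem (by rw [hy]; decide) (fun e => by rw [e, orderOf_one] at hy; omega) ha ha2, hy⟩
  · have hy' : orderOf y⁻¹ = 3 := by rw [orderOf_inv, hy]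
    have hy3 : y * y * y = 1 := three_mul hy
    have hyi : y⁻¹ = y * y := inv_eq_of_mul_eq_one_left hy3
    have e1 : y⁻¹ * a * (y⁻¹)⁻¹ = y * a * y⁻¹ * a := by
      rw [← hh]
      calc y⁻¹ * a * (y⁻¹)⁻¹ = (y * y) * a * (y * y)⁻¹ := by rw [← hyi]
        _ = y * (y * a * y⁻¹) * y⁻¹ := by group
    refine ⟨a, _, y⁻¹, key y⁻¹ hy' ?_ ?_, ha, h.normal.conj_mem a ha y⁻¹, h.orderOf_four ha ha2,
      h.conj_notMem (by rw [hy']; decide) (fun e => by rw [e, orderOf_one] at hy'; omega) ha ha2, hy'⟩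
    · calc t * y⁻¹ * t⁻¹ = (t * y * t⁻¹)⁻¹ := by group
        _ = _ := by rw [hty]
    · have hodd : Odd (orderOf y) := by rw [hy]; decide
      have hy1 : y ≠ 1 := fun hh => by rw [hh, orderOf_one] at hy; omega
      obtain ⟨hjj, hji, -⟩ := h.facts ha ha2 (h.normal.conj_mem a ha y)
        (h.conj_notMem hodd hy1 ha ha2)
      rw [e1]
      set j := y * a * y⁻¹ with hj
      calc y⁻¹ * (j * a) * (y⁻¹)⁻¹ = (y⁻¹ * j * y) * (y⁻¹ * a * (y⁻¹)⁻¹) := by group
        _ = a * (j * a) := by rw [e1, hj]; group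

/-- An involution outside the core gives `GL(2,3)`. -/
theorem iso_gl23 {t : Q} (ht : orderOf t = 2) (htR : t ∉ R) :
    Nonempty (Q ≃* GL (Fin 2) (ZMod 3)) := by
  obtain ⟨y, hy1, hyodd, hty⟩ := CfsgLib.Invol.exists_odd_inverted_of_notMem_normal_two ht
    (fun N hN hN2 hh => htR (h.core N hN hN2 hh))
  have hy : orderOf y = 3 := by
    have hd : orderOf y ∣ 3 := by
      have h1 : orderOf y ∣ 16 * 3 := by rw [show 16 * 3 = Nat.card Q by rw [h.card]]; exact orderOf_dvd_natCard y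
      exact (Nat.Coprime.pow_right 4 (Nat.coprime_two_right.2 hyodd) :
        Nat.Coprime (orderOf y) (2 ^ 4)).dvd_of_dvd_mul_left h1
    rcases (Nat.dvd_prime Nat.prime_three).1 hd with e | e
    · exact absurd (orderOf_eq_one_iff.1 e) hy1
    · exact e
  have htt : t * t = 1 := by rw [← pow_two, ← ht, pow_orderOf_eq_one]
  obtain ⟨e⟩ := h.iso
  set a₀ : Q := (e.symm (QuaternionGroup.a 1) : R).1 with ha₀
  have ha₀R : a₀ ∈ R := (e.symm (QuaternionGroup.a 1)).2
  have ha₀2 : a₀ * a₀ ≠ 1 := fun hh => by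
    have : e.symm (QuaternionGroup.a 1) * e.symm (QuaternionGroup.a 1) = 1 := Subtype.ext hh
    rw [← map_mul, MulEquiv.map_eq_one_iff] at this
    exact absurd this (by decide)
  obtain ⟨a, haR, ha2, hta⟩ : ∃ a ∈ R, a * a ≠ 1 ∧ (t * a * t⁻¹ = a ∨ t * a * t⁻¹ = a⁻¹) := by
    have hsq : ∀ g x : Q, g * x * g⁻¹ * (g * x * g⁻¹) = 1 → x * x = 1 := fun g x hh => by
      calc x * x = g⁻¹ * (g * x * g⁻¹ * (g * x * g⁻¹)) * g := by group
        _ = 1 := by rw [hh]; group
    have hy3 : y * y * y = 1 := three_mul hy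
    have hyi : y⁻¹ = y * y := inv_eq_of_mul_eq_one_left hy3
    set b := y * a₀ * y⁻¹ with hb
    set c := y * b * y⁻¹ with hc
    have hb2 : b * b ≠ 1 := fun hh => ha₀2 (hsq y a₀ hh)
    have hc2 : c * c ≠ 1 := fun hh => hb2 (hsq y b hh)
    have hbR : b ∈ R := h.normal.conj_mem _ ha₀R y
    have hcR : c ∈ R := h.normal.conj_mem _ hbR y
    have hdR : t * a₀ * t⁻¹ ∈ R := h.normal.conj_mem _ ha₀R t
    have htb : t * b * t⁻¹ = y⁻¹ * (t * a₀ * t⁻¹) * y := by
      calc t * (y * a₀ * y⁻¹) * t⁻¹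
          = (t * y * t⁻¹) * (t * a₀ * t⁻¹) * (t * y * t⁻¹)⁻¹ := by group
        _ = _ := by rw [hty, inv_inv]
    have htc : t * c * t⁻¹ = y⁻¹ * (t * b * t⁻¹) * y := by
      calc t * (y * b * y⁻¹) * t⁻¹
          = (t * y * t⁻¹) * (t * b * t⁻¹) * (t * y * t⁻¹)⁻¹ := by group
        _ = _ := by rw [hty, inv_inv]
    have hyb : y⁻¹ * b * y = a₀ := by rw [hb]; group
    have hyc : y⁻¹ * c * y = b := by rw [hc]; group
    have hya : y⁻¹ * a₀ * y = c := by
      rw [hc, hb]
      calc y⁻¹ * a₀ * y = (y * y) * a₀ * (y * y)⁻¹ := by rw [← hyi, inv_inv]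
        _ = _ := by group
    by_cases hA : t * a₀ * t⁻¹ = a₀ ∨ t * a₀ * t⁻¹ = a₀⁻¹
    · exact ⟨a₀, ha₀R, ha₀2, hA⟩
    push Not at hA
    by_cases hB : t * a₀ * t⁻¹ = b ∨ t * a₀ * t⁻¹ = b⁻¹
    · refine ⟨c, hcR, hc2, ?_⟩
      rw [htc, htb]
      rcases hB with e' | e' <;> rw [e']
      · exact Or.inl (by rw [hyb, hya])
      · refine Or.inr ?_
        calc y⁻¹ * (y⁻¹ * b⁻¹ * y) * y = (y⁻¹ * (y⁻¹ * b * y) * y)⁻¹ := by simp [mul_assoc]
          _ = c⁻¹ := by rw [hyb, hya]
    push Not at hB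
    by_cases hC : t * a₀ * t⁻¹ = c ∨ t * a₀ * t⁻¹ = c⁻¹
    · refine ⟨b, hbR, hb2, ?_⟩
      rw [htb]
      rcases hC with e' | e' <;> rw [e']
      · exact Or.inl hyc
      · refine Or.inr ?_
        rw [← hyc]; group
    push Not at hC
    exfalso
    have hd2 : t * a₀ * t⁻¹ * (t * a₀ * t⁻¹) ≠ 1 := fun hh => ha₀2 (hsq t a₀ hh)
    obtain ⟨e⟩ := h.iso
    have hne : ∀ {u v : Q} (hu : u ∈ R) (hv : v ∈ R), u ≠ v → u ≠ v⁻¹ →
        e ⟨u, hu⟩ ≠ e ⟨v, hv⟩ ∧ e ⟨u, hu⟩ ≠ (e ⟨v, hv⟩)⁻¹ := fun hu hv h1 h2 =>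
      ⟨fun hh => h1 (congrArg Subtype.val (e.injective hh)), fun hh => h2 (by
        rw [← map_inv] at hh; exact congrArg Subtype.val (e.injective hh))⟩
    have hE : ∀ {x : Q} (hx : x ∈ R), x * x ≠ 1 → e ⟨x, hx⟩ * e ⟨x, hx⟩ ≠ 1 := fun hx h1 hh =>
      h1 (by rw [← map_mul] at hh; exact congrArg Subtype.val (e.injective (hh.trans (map_one e).symm)))
    have hbn := h.conj_notMem (by rw [hy]; decide) hy1 ha₀R ha₀2
    have hne1 := hne hbR ha₀R (fun hh => hbn (by rw [← hb, hh]; exact Subgroup.mem_zpowers _))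
      (fun hh => hbn (by rw [← hb, hh]; exact Subgroup.inv_mem _ (Subgroup.mem_zpowers _)))
    have h4 : ∀ p q : QuaternionGroup 2, p * p ≠ 1 → q * q ≠ 1 → q ≠ p → q ≠ p⁻¹ →
        (q * p = (p * q)⁻¹) := by decide +kernel
    have hpq := h4 _ _ (hE ha₀R ha₀2) (hE hbR hb2) hne1.1 hne1.2
    rcases q8_third _ _ _ (hE ha₀R ha₀2) (hE hbR hb2) (hE hdR hd2) hne1.1 hne1.2
      (hne hdR ha₀R hA.1 hA.2).1 (hne hdR ha₀R hA.1 hA.2).2
      (hne hdR hbR hB.1 hB.2).1 (hne hdR hbR hB.1 hB.2).2 with e1 | e1 <;>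
    rcases h.third hy ha₀R ha₀2 with e2 | e2
    · rw [← map_mul] at e1
      exact hC.1 ((congrArg Subtype.val (e.injective e1)).trans e2.symm)
    · rw [← map_mul] at e1
      rw [← map_mul, ← map_mul, ← map_inv] at hpq
      refine hC.2 ((congrArg Subtype.val (e.injective e1)).trans ?_)
      show a₀ * b = c⁻¹
      rw [hc, e2, show b * a₀ = (a₀ * b)⁻¹ from congrArg Subtype.val (e.injective hpq), inv_inv]
    · rw [← map_mul] at e1
      rw [← map_mul, ← map_mul, ← map_inv] at hpq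
      refine hC.2 ((congrArg Subtype.val (e.injective e1)).trans ?_)
      show b * a₀ = c⁻¹
      rw [hc, e2]
      exact congrArg Subtype.val (e.injective hpq)
    · rw [← map_mul] at e1
      exact hC.1 ((congrArg Subtype.val (e.injective e1)).trans e2.symm)
  obtain ⟨i, j, y', hrel, hiR, hjR, hi4, hji, hy'3⟩ := h.exists_rel hy htt hty haR ha2 hta
  refine nonempty_iso_gl23 hrel h.card ?_
  set H := Subgroup.closure ({i, j, y', t} : Set Q) with hH
  have hiH : i ∈ H := Subgroup.subset_closure (by simp)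
  have hjH : j ∈ H := Subgroup.subset_closure (by simp)
  have hyH : y' ∈ H := Subgroup.subset_closure (by simp)
  have htH : t ∈ H := Subgroup.subset_closure (by simp)
  have hR8 : Nat.card R = 8 := by
    rw [Nat.card_congr e.toEquiv, Nat.card_eq_fintype_card, QuaternionGroup.card]
  have hRH : R ≤ H := by
    have hlt : Subgroup.zpowers i < H ⊓ R := lt_of_le_of_ne
      (Subgroup.zpowers_le.2 ⟨hiH, hiR⟩) (fun hh => hji (hh ▸ ⟨hjH, hjR⟩))
    have h4 : Nat.card (Subgroup.zpowers i) = 4 := by rw [Nat.card_zpowers, hi4]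
    have hgt : 4 < Nat.card (H ⊓ R : Subgroup Q) := by
      rw [← h4]
      exact lt_of_le_of_ne (Subgroup.card_le_of_le hlt.le) fun hh =>
        hlt.ne (Subgroup.eq_of_le_of_card_ge hlt.le hh.ge)
    have hdvd := Subgroup.card_dvd_of_le (inf_le_right : H ⊓ R ≤ R)
    rw [hR8] at hdvd
    have : Nat.card (H ⊓ R : Subgroup Q) = 8 := by
      obtain ⟨k, hk, hk'⟩ := (Nat.dvd_prime_pow Nat.prime_two).1 (show _ ∣ 2 ^ 3 from hdvd)
      interval_cases k <;> omega
    have heq := Subgroup.eq_of_le_of_card_ge (H := H ⊓ R) (K := R) inf_le_right (by rw [this, hR8])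
    exact heq.ge.trans inf_le_left
  apply Subgroup.eq_top_of_card_eq
  rw [h.card]
  have h8 : 8 ∣ Nat.card H := hR8 ▸ Subgroup.card_dvd_of_le hRH
  have h3 : 3 ∣ Nat.card H := hy'3 ▸ (Subgroup.orderOf_mk y' hyH ▸ orderOf_dvd_natCard _)
  have h24 : 24 ∣ Nat.card H := Nat.Coprime.mul_dvd_of_dvd_of_dvd (by norm_num : Nat.Coprime 8 3) h8 h3
  have h48 : Nat.card H ∣ 48 := h.card ▸ Subgroup.card_subgroup_dvd_card H
  by_contra hne
  have heq : Nat.card H = 24 := by
    have := Nat.le_of_dvd (by norm_num) h48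
    have := Nat.card_pos (α := H)
    omega
  haveI := h.normal
  have hrel3 : R.relIndex H = 3 := by
    have hh := Subgroup.card_mul_index (R.subgroupOf H)
    rw [Nat.card_congr (Subgroup.subgroupOfEquivOfLe hRH).toEquiv, hR8, heq] at hh
    show (R.subgroupOf H).index = 3
    omega
  have hmem : t ^ R.relIndex H ∈ R := by
    have hh : (⟨t, htH⟩ : H) ^ R.relIndex H ∈ R.subgroupOf H := (R.subgroupOf H).pow_index_mem _
    rw [Subgroup.mem_subgroupOf] at hh
    exact hh
  rw [hrel3, pow_succ, pow_two, htt, one_mul] at hmem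
  exact htR hmem

/-- The central quotient is the symmetric group of degree four. -/
theorem quotient_center_perm :
    Nonempty (Q ⧸ Subgroup.center Q ≃* Equiv.Perm (Fin 4)) := by
  classical
  haveI : Fact (Nat.Prime 3) := ⟨Nat.prime_three⟩
  haveI := h.normal
  have hR8 : Nat.card R = 8 := by
    obtain ⟨e⟩ := h.iso
    rw [Nat.card_congr e.toEquiv, Nat.card_eq_fintype_card, QuaternionGroup.card]
  have hcard3 : ∀ Y : Sylow 3 Q, Nat.card (Y : Subgroup Q) = 3 := fun Y => by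
    rw [Sylow.card_eq_multiplicity, h.card,
      show Nat.factorization 48 3 = 1 from ?_, pow_one]
    rw [show (48 : ℕ) = 2 ^ 4 * 3 by norm_num, Nat.factorization_mul (by norm_num) (by norm_num)]
    simp [Nat.Prime.factorization Nat.prime_three, Nat.factorization_eq_zero_of_not_dvd (show ¬ 3 ∣ 16 by norm_num)]
  have hcent : ∀ Y : Sylow 3 Q, ∀ a ∈ R, a * a ≠ 1 → a ∈ Subgroup.normalizer ((Y : Subgroup Q) : Set Q) →
      False := by
    intro Y a ha ha2 haN
    obtain ⟨⟨y, hyY⟩, hy1⟩ : ∃ y : (Y : Subgroup Q), y ≠ 1 := by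
      by_contra! hall
      have : Nat.card (Y : Subgroup Q) = 1 := by
        rw [Subgroup.card_eq_one, Subgroup.eq_bot_iff_forall]
        exact fun g hg => congrArg Subtype.val (hall ⟨g, hg⟩)
      rw [hcard3] at this; omega
    have hy : orderOf y = 3 := by
      have hd : orderOf y ∣ 3 := hcard3 Y ▸ Subgroup.orderOf_mk y hyY ▸ orderOf_dvd_natCard _
      rcases (Nat.dvd_prime Nat.prime_three).1 hd with e | e
      · exact absurd (Subtype.ext (orderOf_eq_one_iff.1 e)) hy1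
      · exact e
    refine h.conj_notMem (y := y) (by rw [hy]; decide) (fun hh => hy1 (Subtype.ext hh)) ha ha2 ?_
    have hmem1 : y * a * y⁻¹ * a⁻¹ ∈ (Y : Subgroup Q) := by
      rw [show y * a * y⁻¹ * a⁻¹ = y * (a * y⁻¹ * a⁻¹) by group]
      exact Subgroup.mul_mem _ hyY ((Subgroup.mem_normalizer_iff.1 haN _).1 (Subgroup.inv_mem _ hyY))
    have hmem2 : y * a * y⁻¹ * a⁻¹ ∈ R := R.mul_mem (h.normal.conj_mem a ha y) (R.inv_mem ha)
    have hbot : (Y : Subgroup Q) ⊓ R = ⊥ := disjoint_iff.1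
      (Subgroup.disjoint_of_coprime_natCard (by rw [hcard3, hR8]; norm_num))
    have := hbot.le (⟨hmem1, hmem2⟩ : y * a * y⁻¹ * a⁻¹ ∈ (Y : Subgroup Q) ⊓ R)
    rw [Subgroup.mem_bot, mul_inv_eq_one] at this
    rw [this]; exact Subgroup.mem_zpowers a
  obtain ⟨e⟩ := h.iso
  set a₀ : Q := (e.symm (QuaternionGroup.a 1) : R).1 with ha₀
  have ha₀R : a₀ ∈ R := (e.symm (QuaternionGroup.a 1)).2
  have ha₀2 : a₀ * a₀ ≠ 1 := fun hh => by
    have : e.symm (QuaternionGroup.a 1) * e.symm (QuaternionGroup.a 1) = 1 := Subtype.ext hh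
    rw [← map_mul, MulEquiv.map_eq_one_iff] at this
    exact absurd this (by decide)
  have hZN : ∀ Y : Sylow 3 Q, Subgroup.center Q ≤ Subgroup.normalizer ((Y : Subgroup Q) : Set Q) :=
    fun Y z hz => Subgroup.mem_normalizer_iff.2 fun g => by
      rw [← Subgroup.mem_center_iff.1 hz g, mul_inv_cancel_right]
  have hn4 : Nat.card (Sylow 3 Q) = 4 := by
    have hmod : Nat.card (Sylow 3 Q) % 3 = 1 := by
      have := card_sylow_modEq_one 3 Q
      simpa [Nat.ModEq] using this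
    set Y : Sylow 3 Q := default
    set N := Subgroup.normalizer ((Y : Subgroup Q) : Set Q) with hN
    have hidx : Nat.card (Sylow 3 Q) = N.index := Sylow.card_eq_index_normalizer Y
    have h6 : 6 ∣ Nat.card N := by
      have h3 : 3 ∣ Nat.card N := hcard3 Y ▸ Subgroup.card_dvd_of_le Subgroup.le_normalizer
      have h2 : 2 ∣ Nat.card N := h.card_center ▸ Subgroup.card_dvd_of_le (hZN Y)
      exact Nat.Coprime.mul_dvd_of_dvd_of_dvd (by norm_num : Nat.Coprime 2 3) h2 h3
    obtain ⟨m, hm⟩ := h6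
    have hmul := N.card_mul_index
    rw [h.card, hm, ← hidx] at hmul
    have hne1 : Nat.card (Sylow 3 Q) ≠ 1 := fun h1 => by
      rw [hidx, Subgroup.index_eq_one] at h1
      exact hcent Y a₀ ha₀R ha₀2 (by rw [← hN, h1]; exact Subgroup.mem_top _)
    have h8 : Nat.card (Sylow 3 Q) ∣ 8 := ⟨m, by
      have : 6 * (Nat.card (Sylow 3 Q) * m) = 6 * 8 := by rw [show 6 * 8 = 48 by norm_num, ← hmul]; ring
      omega⟩
    obtain ⟨k, hk, hk'⟩ := (Nat.dvd_prime_pow Nat.prime_two).1 (show _ ∣ 2 ^ 3 from h8)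
    interval_cases k <;> omega
  let φ : Q →* Equiv.Perm (Sylow 3 Q) := MulAction.toPermHom Q (Sylow 3 Q)
  have hker : φ.ker = Subgroup.center Q := by
    have hKN : ∀ g, g ∈ φ.ker ↔ ∀ Y : Sylow 3 Q, g ∈ Subgroup.normalizer ((Y : Subgroup Q) : Set Q) :=
      fun g => by
        rw [MonoidHom.mem_ker, Equiv.ext_iff]
        exact forall_congr' fun Y => Sylow.smul_eq_iff_mem_normalizer
    refine le_antisymm ?_ fun z hz => (hKN z).2 fun Y => hZN Y hz
    have h3 : ¬ 3 ∣ Nat.card φ.ker := by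
      intro hd
      obtain ⟨⟨g, hgK⟩, hg⟩ := exists_prime_orderOf_dvd_card' 3 hd
      rw [Subgroup.orderOf_mk] at hg
      obtain ⟨Y₁, hY₁⟩ := (IsPGroup.of_card (G := Subgroup.zpowers g) (p := 3) (n := 1)
        (by rw [Nat.card_zpowers, hg, pow_one])).exists_le_sylow
      have hY₁e : Subgroup.zpowers g = Y₁ :=
        Subgroup.eq_of_le_of_card_ge hY₁ (by rw [hcard3, Nat.card_zpowers, hg])
      haveI : Nontrivial (Sylow 3 Q) := Finite.one_lt_card_iff_nontrivial.1 (by rw [hn4]; norm_num)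
      obtain ⟨Y₂, hne⟩ := exists_ne Y₁
      have hgN := (hKN g).1 hgK Y₂
      have hp := IsPGroup.to_sup_of_normal_right' Y₁.isPGroup' Y₂.isPGroup'
        (by rw [← hY₁e]; exact Subgroup.zpowers_le.2 hgN)
      have h1 : (Y₁ : Subgroup Q) ≤ Y₂ := le_sup_left.trans (Y₂.is_maximal' hp le_sup_right).le
      exact hne (Sylow.ext (Subgroup.eq_of_le_of_card_ge h1 (by rw [hcard3, hcard3])).symm)
    have hK2 : IsPGroup 2 φ.ker := by
      haveI : Fact (Nat.Prime 2) := ⟨Nat.prime_two⟩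
      have hd : Nat.card φ.ker ∣ 2 ^ 4 * 3 := by
        rw [show (2 : ℕ) ^ 4 * 3 = 48 by norm_num, ← h.card]; exact Subgroup.card_subgroup_dvd_card _
      have : Nat.card φ.ker ∣ 2 ^ 4 :=
        ((Nat.Prime.coprime_iff_not_dvd Nat.prime_three).2 h3).symm.dvd_of_dvd_mul_right hd
      obtain ⟨k, -, hk⟩ := (Nat.dvd_prime_pow Nat.prime_two).1 this
      exact IsPGroup.of_card hk
    intro g hg
    have hgR := h.core _ (MonoidHom.normal_ker φ) hK2 hg
    refine h.center_iff.2 ⟨hgR, ?_⟩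
    by_contra h2
    exact hcent default g hgR h2 ((hKN g).1 hg _)
  haveI := Fintype.ofFinite (Sylow 3 Q)
  have hc4 : Fintype.card (Sylow 3 Q) = 4 := by rw [← Nat.card_eq_fintype_card, hn4]
  have hrange : φ.range = ⊤ := by
    apply Subgroup.eq_top_of_card_eq
    rw [Nat.card_eq_fintype_card (α := Equiv.Perm (Sylow 3 Q)), Fintype.card_perm, hc4,
      ← Nat.card_congr (QuotientGroup.quotientKerEquivRange φ).toEquiv, ← Subgroup.index_eq_card,
      hker]
    have := (Subgroup.center Q).card_mul_index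
    rw [h.card_center, h.card] at this
    rw [show Nat.factorial 4 = 24 by rfl]
    omega
  exact ⟨(QuotientGroup.quotientMulEquivOfEq hker.symm).trans
    ((QuotientGroup.quotientKerEquivOfSurjective φ (MonoidHom.range_eq_top.1 hrange)).trans
      (Fintype.equivFinOfCardEq hc4).permCongrHom)⟩

end CoreData

end CfsgLib.InvChar.RankOne
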