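import Cfsg.Agent.Lib.InvChar.RankOneInter.Relations
import Cfsg.Agent.Lib.InvChar.SolvableCore
import Cfsg.Agent.Lib.Solvable.UniqueInvolution
import Cfsg.Prelude.Def_CaseTheorems

/-!
# The automorphisms of the quaternion group of order eight
-/

set_option autoImplicit false

namespace CfsgLib.InvChar.RankOne

theorem q8_center : ∀ a : QuaternionGroup 2, (∀ b, a * b = b * a) ↔ a * a = 1 := by decide +kernel

theorem q8_facts : ∀ a b : QuaternionGroup 2, a * a ≠ 1 →
    (a ^ 4 = 1 ∧ ((b = 1 ∨ b = a ∨ b = a * a ∨ b = a⁻¹) ∨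
      (b * b = a * a ∧ b * a * b⁻¹ = a⁻¹ ∧ b * b ≠ 1))) := by decide +kernel

theorem q8_third : ∀ a b c : QuaternionGroup 2, a * a ≠ 1 → b * b ≠ 1 → c * c ≠ 1 → b ≠ a → b ≠ a⁻¹ →
    c ≠ a → c ≠ a⁻¹ → c ≠ b → c ≠ b⁻¹ → c = a * b ∨ c = b * a := by decide +kernel

theorem q8_card_images :
    (Finset.univ.filter fun p : QuaternionGroup 2 × QuaternionGroup 2 =>
      p.1 * p.1 ≠ 1 ∧ p.2 * p.2 ≠ 1 ∧ p.2 ≠ p.1 ∧ p.2 ≠ p.1⁻¹).card = 24 := by decide +kernel

theorem q8_card_invol : (Finset.univ.filter fun a : QuaternionGroup 2 => a * a = 1).card = 2 := by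
  decide +kernel

/-- An automorphism of `Q₈` is determined by two generators. -/
theorem q8_generated : ∀ g : QuaternionGroup 2, ∃ u : Fin 4, ∃ v : Fin 2,
    g = (QuaternionGroup.a 1) ^ (u : ℕ) * (QuaternionGroup.xa 0) ^ (v : ℕ) := by decide +kernel

variable {R : Type*} [Group R]

theorem card_mulAut_le (e : R ≃* QuaternionGroup 2) : Nat.card (MulAut R) ≤ 24 := by
  classical
  rw [← q8_card_images, ← Fintype.card_subtype, ← Nat.card_eq_fintype_card]
  set A : QuaternionGroup 2 := .a 1 with hA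
  set B : QuaternionGroup 2 := .xa 0 with hB
  let φ : MulAut R → MulAut (QuaternionGroup 2) := fun f => (e.symm.trans f).trans e
  have hAA : A * A ≠ 1 := by decide
  have hBB : B * B ≠ 1 := by decide
  have hBA : B ≠ A := by decide
  have hBA' : B ≠ A⁻¹ := by decide
  refine Nat.card_le_card_of_injective (fun f =>
    ⟨(φ f A, φ f B), ?_, ?_, ?_, ?_⟩) ?_
  · rw [← map_mul]; exact (map_ne_one_iff (φ f) (φ f).injective).2 hAA
  · rw [← map_mul]; exact (map_ne_one_iff (φ f) (φ f).injective).2 hBB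
  · exact fun h => hBA ((φ f).injective h)
  · intro h
    rw [← map_inv] at h
    exact hBA' ((φ f).injective h)
  · intro f g h
    simp only [Subtype.mk.injEq, Prod.mk.injEq] at h
    have hfg : ∀ q, φ f q = φ g q := fun q => by
      obtain ⟨u, v, rfl⟩ := q8_generated q
      simp only [map_mul, map_pow, ← hA, ← hB, h.1, h.2]
    ext r
    have := hfg (e r)
    simpa [φ] using this

end CfsgLib.InvChar.RankOne
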