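import Cfsg.Agent.Lib.GL23.Elems
import Mathlib.Algebra.Group.Pointwise.Set.Basic
import Mathlib.GroupTheory.OrderOfElement
import Mathlib.GroupTheory.Index
import Mathlib.Algebra.Group.Pointwise.Set.Card
import Mathlib.Algebra.Group.Subgroup.Pointwise

/-!
# Relations determining GL(2,3)
-/

set_option autoImplicit false

open scoped Pointwise

namespace CfsgLib.InvChar.RankOne

/-- The relations between the four generators. -/
structure Rel {W : Type*} [Group W] (i j y t : W) : Prop where
  i4 : i ^ 4 = 1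
  jj : j * j = i * i
  ji : j * i * j⁻¹ = i⁻¹
  y3 : y ^ 3 = 1
  tt : t * t = 1
  ty : t * y * t⁻¹ = y⁻¹
  yi : y * i * y⁻¹ = j
  yj : y * j * y⁻¹ = i * j
  ti : t * i * t⁻¹ = i⁻¹
  tj : t * j * t⁻¹ = (i * j)⁻¹

theorem Rel.prod {W V : Type*} [Group W] [Group V] {i j y t : W} {i' j' y' t' : V}
    (h : Rel i j y t) (h' : Rel i' j' y' t') : Rel (i, i') (j, j') (y, y') (t, t') :=
  ⟨Prod.ext h.i4 h'.i4, Prod.ext h.jj h'.jj, Prod.ext h.ji h'.ji, Prod.ext h.y3 h'.y3,
    Prod.ext h.tt h'.tt, Prod.ext h.ty h'.ty, Prod.ext h.yi h'.yi, Prod.ext h.yj h'.yj,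
    Prod.ext h.ti h'.ti, Prod.ext h.tj h'.tj⟩

variable {W : Type*} [Group W] [Finite W]

/-- An element mapping a set of generators into a subgroup normalizes it. -/
theorem mem_normalizer_closure {S : Set W} {g : W}
    (h : ∀ s ∈ S, g * s * g⁻¹ ∈ Subgroup.closure S) :
    g ∈ Subgroup.normalizer (Subgroup.closure S : Set W) := by
  refine Subgroup.mem_normalizer_fintype fun x hx => ?_
  have hle : Subgroup.closure S ≤ (Subgroup.closure S).comap (MulAut.conj g).toMonoidHom :=
    (Subgroup.closure_le _).2 fun s hs => h s hs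
  exact hle hx

/-- A subgroup generated by `a` and an element normalizing `⟨a⟩` with square in it. -/
theorem card_closure_pair_le {a b : W} (hconj : b * a * b⁻¹ ∈ Subgroup.zpowers a)
    (hsq : b * b ∈ Subgroup.zpowers a) :
    Nat.card (Subgroup.closure ({a, b} : Set W)) ≤ orderOf a * 2 := by
  set A := Subgroup.zpowers a with hA
  have hbN : b ∈ Subgroup.normalizer (A : Set W) := by
    rw [hA, Subgroup.zpowers_eq_closure]
    refine mem_normalizer_closure fun s hs => ?_
    rw [Set.mem_singleton_iff] at hs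
    rw [hs, ← Subgroup.zpowers_eq_closure]
    exact hconj
  have hsub : (Subgroup.closure ({a, b} : Set W) : Set W) ⊆ (A : Set W) * ({1, b} : Set W) := by
    intro g hg
    have hb1 : Subgroup.zpowers b ≤ Subgroup.normalizer (A : Set W) :=
      Subgroup.zpowers_le.2 hbN
    have hg' : g ∈ (A ⊔ Subgroup.zpowers b : Subgroup W) := by
      refine (Subgroup.closure_le _).2 ?_ hg
      rintro x (rfl | rfl)
      · exact Subgroup.mem_sup_left (Subgroup.mem_zpowers _)
      · exact Subgroup.mem_sup_right (Subgroup.mem_zpowers _)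
    rw [← SetLike.mem_coe, Subgroup.coe_mul_of_right_le_normalizer_left A _ hb1] at hg'
    obtain ⟨x, hx, z, hz, rfl⟩ := hg'
    obtain ⟨k, rfl⟩ := Subgroup.mem_zpowers_iff.1 hz
    rcases Int.even_or_odd k with ⟨m, rfl⟩ | ⟨m, rfl⟩
    · refine ⟨x * b ^ (m + m), A.mul_mem hx ?_, 1, by simp, mul_one _⟩
      rw [← two_mul, zpow_mul, zpow_two]
      exact A.zpow_mem hsq m
    · refine ⟨x * b ^ (2 * m), A.mul_mem hx ?_, b, by simp, by show x * b ^ (2 * m) * b = x * b ^ (2 * m + 1); rw [zpow_add_one, mul_assoc]⟩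
      rw [zpow_mul, zpow_two]
      exact A.zpow_mem hsq m
  calc Nat.card (Subgroup.closure ({a, b} : Set W))
      ≤ ((A : Set W) * ({1, b} : Set W)).ncard := by
        rw [← Nat.card_coe_set_eq]
        exact Nat.card_mono (Set.toFinite _) hsub
    _ ≤ (A : Set W).ncard * ({1, b} : Set W).ncard := by
        rw [← Nat.card_coe_set_eq, ← Nat.card_coe_set_eq, ← Nat.card_coe_set_eq]
        exact Set.natCard_mul_le
    _ ≤ orderOf a * 2 := by
        refine Nat.mul_le_mul (le_of_eq ?_) ?_
        · rw [← Nat.card_coe_set_eq]; exact Nat.card_zpowers a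
        · exact le_trans (Set.ncard_insert_le _ _) (by rw [Set.ncard_singleton])

theorem card_closure_le {i j y t : W} (h : Rel i j y t) :
    Nat.card (Subgroup.closure ({i, j, y, t} : Set W)) ≤ 48 := by
  set N := Subgroup.closure ({i, j} : Set W) with hN
  set D := Subgroup.closure ({y, t} : Set W) with hD
  have hi : i ∈ N := Subgroup.subset_closure (by simp)
  have hj : j ∈ N := Subgroup.subset_closure (by simp)
  have hNn : D ≤ Subgroup.normalizer (N : Set W) := by
    rw [hD, Subgroup.closure_le]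
    rintro g (rfl | rfl)
    · refine mem_normalizer_closure ?_
      rintro s (rfl | rfl)
      · rw [h.yi]; exact hj
      · rw [h.yj]; exact N.mul_mem hi hj
    · refine mem_normalizer_closure ?_
      rintro s (rfl | rfl)
      · rw [h.ti]; exact N.inv_mem hi
      · rw [h.tj]; exact N.inv_mem (N.mul_mem hi hj)
  have hN8 : Nat.card N ≤ 8 := by
    refine (card_closure_pair_le (by rw [h.ji]; exact Subgroup.inv_mem _ (Subgroup.mem_zpowers _))
      (by rw [h.jj]; exact Subgroup.mul_mem _ (Subgroup.mem_zpowers _) (Subgroup.mem_zpowers _))).trans ?_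
    have := Nat.le_of_dvd (by norm_num) (orderOf_dvd_of_pow_eq_one h.i4)
    omega
  have hD6 : Nat.card D ≤ 6 := by
    refine (card_closure_pair_le (by rw [h.ty]; exact Subgroup.inv_mem _ (Subgroup.mem_zpowers _))
      (by rw [h.tt]; exact Subgroup.one_mem _)).trans ?_
    have := Nat.le_of_dvd (by norm_num) (orderOf_dvd_of_pow_eq_one h.y3)
    omega
  have hle : Subgroup.closure ({i, j, y, t} : Set W) ≤ N ⊔ D := by
    rw [Subgroup.closure_le]
    rintro g (rfl | rfl | rfl | rfl)
    · exact Subgroup.mem_sup_left hi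
    · exact Subgroup.mem_sup_left hj
    · exact Subgroup.mem_sup_right (Subgroup.subset_closure (by simp))
    · exact Subgroup.mem_sup_right (Subgroup.subset_closure (by simp))
  refine (Subgroup.card_le_of_le hle).trans ?_
  show Nat.card ((N ⊔ D : Subgroup W) : Set W) ≤ 48
  rw [Subgroup.coe_mul_of_right_le_normalizer_left N D hNn]
  refine Set.natCard_mul_le.trans ?_
  exact (Nat.mul_le_mul hN8 hD6).trans (by norm_num)

/-- Two generated groups of order 48 with these relations are isomorphic. -/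
theorem nonempty_iso {V : Type*} [Group V] [Finite V] {i j y t : W} {i' j' y' t' : V}
    (h : Rel i j y t) (h' : Rel i' j' y' t') (hW : Nat.card W = 48) (hV : Nat.card V = 48)
    (hg : Subgroup.closure ({i, j, y, t} : Set W) = ⊤)
    (hg' : Subgroup.closure ({i', j', y', t'} : Set V) = ⊤) : Nonempty (W ≃* V) := by
  set Γ := Subgroup.closure ({(i, i'), (j, j'), (y, y'), (t, t')} : Set (W × V)) with hΓ
  have hΓ48 : Nat.card Γ ≤ 48 := card_closure_le (h.prod h')
  let p₁ : Γ →* W := (MonoidHom.fst W V).comp Γ.subtype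
  let p₂ : Γ →* V := (MonoidHom.snd W V).comp Γ.subtype
  have hs₁ : Function.Surjective p₁ := by
    rw [← MonoidHom.range_eq_top, eq_top_iff, ← hg, Subgroup.closure_le]
    rintro g (rfl | rfl | rfl | rfl)
    · exact ⟨⟨(g, i'), Subgroup.subset_closure (by simp)⟩, rfl⟩
    · exact ⟨⟨(g, j'), Subgroup.subset_closure (by simp)⟩, rfl⟩
    · exact ⟨⟨(g, y'), Subgroup.subset_closure (by simp)⟩, rfl⟩
    · exact ⟨⟨(g, t'), Subgroup.subset_closure (by simp)⟩, rfl⟩
  have hs₂ : Function.Surjective p₂ := by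
    rw [← MonoidHom.range_eq_top, eq_top_iff, ← hg', Subgroup.closure_le]
    rintro g (rfl | rfl | rfl | rfl)
    · exact ⟨⟨(i, g), Subgroup.subset_closure (by simp)⟩, rfl⟩
    · exact ⟨⟨(j, g), Subgroup.subset_closure (by simp)⟩, rfl⟩
    · exact ⟨⟨(y, g), Subgroup.subset_closure (by simp)⟩, rfl⟩
    · exact ⟨⟨(t, g), Subgroup.subset_closure (by simp)⟩, rfl⟩
  exact ⟨(MulEquiv.ofBijective p₁ (hs₁.bijective_of_nat_card_le (hW ▸ hΓ48))).symm.trans
    (MulEquiv.ofBijective p₂ (hs₂.bijective_of_nat_card_le (hV ▸ hΓ48)))⟩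

section Model

open Matrix

/-- A quaternion element of order four. -/
def gI : GL23.M := ⟨!![0, 1; 2, 0], !![0, 2; 1, 0], by decide, by decide⟩
/-- A second quaternion element of order four. -/
def gJ : GL23.M := ⟨!![1, 1; 1, 2], !![2, 2; 2, 1], by decide, by decide⟩
/-- An element of order three. -/
def gY : GL23.M := ⟨!![0, 1; 2, 2], !![2, 2; 1, 0], by decide, by decide⟩
/-- An involution outside the quaternion subgroup. -/
def gT : GL23.M := ⟨!![0, 1; 1, 0], !![0, 1; 1, 0], by decide, by decide⟩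

theorem rel_model : Rel gI gJ gY gT := by
  constructor <;> decide +kernel

theorem card_model : Nat.card GL23.M = 48 := by
  rw [Nat.card_eq_fintype_card, ← Finset.card_univ, GL23.univ_eq]
  exact GL23.card_efin

theorem closure_model : Subgroup.closure ({gI, gJ, gY, gT} : Set GL23.M) = ⊤ := by
  have h : ∀ g ∈ GL23.elemList, ∃ a : Fin 4, ∃ b : Fin 2, ∃ c : Fin 3, ∃ d : Fin 2,
      g = gI ^ (a : ℕ) * gJ ^ (b : ℕ) * gY ^ (c : ℕ) * gT ^ (d : ℕ) := by decide +kernel
  refine eq_top_iff.2 fun g _ => ?_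
  obtain ⟨a, b, c, d, rfl⟩ := h g (GL23.mem_efin g)
  refine Subgroup.mul_mem _ (Subgroup.mul_mem _ (Subgroup.mul_mem _ ?_ ?_) ?_) ?_ <;>
    exact Subgroup.pow_mem _ (Subgroup.subset_closure (by simp)) _

theorem nonempty_iso_gl23 {i j y t : W} (h : Rel i j y t) (hW : Nat.card W = 48)
    (hg : Subgroup.closure ({i, j, y, t} : Set W) = ⊤) :
    Nonempty (W ≃* GL (Fin 2) (ZMod 3)) :=
  nonempty_iso h rel_model hW card_model hg closure_model

end Model

end CfsgLib.InvChar.RankOne
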